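import Cfsg.Agent.Lib.CosetEnum.Defs

/-! Generated table data. -/

set_option autoImplicit false
set_option maxRecDepth 20000

namespace Cfsg.Lib.CosetEnum.Fi22Sub_bcd

/-- Table data. -/
def tabC_0_0 : Tab :=
  (.node 3 (.node 1 (.leaf 0x40000000000000006) (.node 1 (.leaf 0x40000000000000007) (.leaf 0x10000000000000000c0000200000000004))) (.node 1 (.leaf 0x100000800001000008000010000140000300000400003) (.node 1 (.leaf 0x100000400000000004000000000100000300000000005) (.leaf 0x1000008000070000080000100000800004))))

/-- Table data. -/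
def tabC_0 : Tab :=
  tabC_0_0

end Cfsg.Lib.CosetEnum.Fi22Sub_bcd
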